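import Cfsg.Agent.H664.Eight.Base
import Cfsg.Agent.H424.BlockTools2
import Cfsg.Agent.Blocks.CyclicClasses

/-!
# Degrees from the principal block of a group with a self-centralizing Sylow subgroup of order `p` (helper561)

* `exists_blk` : `BlockData` from a self-centralizing subgroup of order `p` and the order of the group;
* `sd_cases` : a degree prime to `p` is `1`, a signed degree `≡ 1`, or the exceptional degree `≡ ± e`;
* `mem_degs` : a degree `≡ ± 1 mod p`, different from `1`, occurs among the signed degrees.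
-/

set_option autoImplicit false

namespace Cfsg.Agent.H561.Eight

open Cfsg Subgroup Cfsg.Agent.H664.Eight Cfsg.Agent.SmallSimple.DegreeData Cfsg.Agent.H424

universe u

variable {G : Type u} [Group G] [Finite G] {p : ℕ} [hp : Fact p.Prime]

theorem exists_blk (hp2 : p ≠ 2) (hR : ∃ R : Subgroup G, Nat.card R = p ∧ centralizer (R : Set G) = R)
    (hpp : ¬ p ^ 2 ∣ Nat.card G) {e t : ℕ} (ht : e * t = p - 1) (he : Nat.card G / p % p = e) :
    ∃ (M : Ideal AlgInt) (P : Sylow p G), IsPModular p M ∧ Nat.card P = p ∧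
      Nat.card (centralizer ((P : Subgroup G) : Set G)) = p ∧ Nonempty (BlockData p M P e t) := by
  obtain ⟨R, hR, hC⟩ := hR
  have hpr : p.Prime := Fact.out
  have hRp : IsPGroup p R := IsPGroup.of_card (n := 1) (by rw [hR, pow_one])
  obtain ⟨P, hP⟩ := hRp.exists_le_sylow
  have hPc : Nat.card P = p := by
    obtain ⟨k, hk⟩ := IsPGroup.iff_card.1 P.isPGroup'
    have h1 := Subgroup.card_dvd_of_le hP
    rw [hR, hk] at h1
    have h2 : k ≤ 1 := by
      by_contra h
      exact hpp (((pow_dvd_pow p (by omega : 2 ≤ k)).trans (dvd_of_eq hk.symm)).trans (Subgroup.card_subgroup_dvd_card _))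
    have h3 : k ≠ 0 := by
      rintro rfl
      rw [pow_zero] at h1
      exact hpr.one_lt.ne' (Nat.dvd_one.1 h1)
    have h4 : k = 1 := by omega
    rw [hk, h4, pow_one]
  have hRP : R = (P : Subgroup G) := Subgroup.eq_of_le_of_card_ge hP (by rw [hR]; exact hPc.le)
  have hCc : Nat.card (centralizer ((P : Subgroup G) : Set G)) = p := by rw [← hRP, hC, hR]
  obtain ⟨e₀, he₀⟩ : ∃ e₀, (centralizer ((P : Subgroup G) : Set G)).relIndex (normalizer ((P : Subgroup G) : Set G)) = e₀ :=
    ⟨_, rfl⟩
  have h1 := Blocks.CyclicClasses.card_cls P hPc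
  rw [he₀] at h1
  have h2 : e₀ < p := by
    have h3 : e₀ ∣ p - 1 := Dvd.intro_left _ h1
    have h4 := Nat.le_of_dvd (by have := hpr.two_le; omega) h3
    have := hpr.two_le
    omega
  have h3 : Nat.card (normalizer ((P : Subgroup G) : Set G)) = p * e₀ := by
    have h4 := Subgroup.relIndex_mul_relIndex ⊥ (centralizer ((P : Subgroup G) : Set G))
      (normalizer ((P : Subgroup G) : Set G)) bot_le (centralizer_le_normalizer _)
    rw [Subgroup.relIndex_bot_left, Subgroup.relIndex_bot_left, hCc, he₀] at h4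
    exact h4.symm
  have h4 := card_sylow_modEq_one p G
  rw [Sylow.card_eq_index_normalizer P] at h4
  have h5 := (normalizer ((P : Subgroup G) : Set G)).index_mul_card
  rw [h3] at h5
  have h6 : Nat.card G / p = (normalizer ((P : Subgroup G) : Set G)).index * e₀ := by
    rw [← h5, show (normalizer ((P : Subgroup G) : Set G)).index * (p * e₀) =
      p * ((normalizer ((P : Subgroup G) : Set G)).index * e₀) by ring, Nat.mul_div_cancel_left _ hpr.pos]
  have h7 : e₀ = e := by
    rw [← he, h6]
    have h8 : (normalizer ((P : Subgroup G) : Set G)).index * e₀ ≡ 1 * e₀ [MOD p] := h4.mul_right _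
    rw [one_mul] at h8
    rw [h8, Nat.mod_eq_of_lt h2]
  subst h7
  obtain ⟨M, hM, hD⟩ := BlockTools.exists_block_of_card hp2 P hPc hCc h3 ht
  exact ⟨M, P, hM, hPc, hCc, hD⟩

variable {M : Ideal AlgInt} {P : Sylow p G} {e t : ℕ}

/-- a degree `≡ ± 1`, where `e ≢ ± 1`: a member of `degs` -/
theorem mem_degs (hM : IsPModular p M) (D : BlockData p M P e t) (hP : Nat.card P = p)
    (hC : Nat.card (centralizer ((P : Subgroup G) : Set G)) = p) (ht : e * t = p - 1) {d : ℤ}
    (hd : d.natAbs ∈ charDegrees G) (h1 : d ≡ 1 [ZMOD p]) (hd1 : d.natAbs ≠ 1)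
    (he : ¬ (e : ℤ) ≡ 1 [ZMOD p]) (he' : ¬ (e : ℤ) ≡ -1 [ZMOD p]) (h11 : ¬ (1 : ℤ) ≡ -1 [ZMOD p]) : d ∈ D.degs := by
  have hpr : p.Prime := Fact.out
  have hpd : ¬ p ∣ d.natAbs := by
    intro h
    have h2 : (p : ℤ) ∣ d := Int.natCast_dvd.2 h
    have h3 : (p : ℤ) ∣ 1 := by
      have h5 := dvd_add h1.dvd h2
      rwa [sub_add_cancel] at h5
    have h4 : p ∣ 1 := by exact_mod_cast h3
    exact hpr.one_lt.ne' (Nat.dvd_one.1 h4)
  rcases BlockTools2.degree_cases hM D hP hC ht hd hpd with h | ⟨z, hz, hzd⟩ | h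
  · exact absurd h hd1
  · rcases Int.natAbs_eq_natAbs_iff.1 hzd with h | h
    · rw [← h]; exact hz
    · exfalso
      have h2 := (D.degs_spec hP z hz).1
      rw [h] at h2
      apply h11
      have h3 := h1.neg
      exact h2.symm.trans h3
  · exfalso
    have h2 := D.dexc_eq ht
    have h3 := D.dexc_modEq hP ht
    rw [← h2] at h3
    rcases Int.natAbs_eq_natAbs_iff.1 h with h4 | h4
    · rw [← h4] at h3
      exact he (h3.symm.trans h1)
    · have h5 : 1 + D.degs.sum = -d := by omega
      rw [h5] at h3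
      exact he' (h3.symm.trans h1.neg)

end Cfsg.Agent.H561.Eight
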