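import Cfsg.Agent.H561.Eight.Blk
import Cfsg.Agent.S0285
import Cfsg.Agent.H167.HasStLie
import Cfsg.Agent.H677.DG.Tri42
import Cfsg.Agent.H677.WeilIrr
import Cfsg.Agent.H809.SelfCentPSU
import Cfsg.Agent.H113.PSU.Facts
import Cfsg.Agent.H362.Dl.SpCount

/-!
# At least eight character degrees: `PSU_n(2)`, `4 ≤ n ≤ 7`, and `PSp_4(3)` (S4899, helper561)

`eight_u42`, `eight_sp43`, `eight_u52`, `eight_u62`, `eight_u72`: the rank 3 characters, the Steinberg character, the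
Harish-Chandra induced cuspidal characters, and the principal `p`-block for `p = 5, 11, 11, 43`.
-/

set_option autoImplicit false
set_option linter.unusedSectionVars false

namespace Cfsg.Agent.H561.Eight

open Cfsg Subgroup Cfsg.Agent.H664.Eight Cfsg.Agent.SmallSimple.DegreeData Cfsg.Agent.H424
open Cfsg.Agent.H113.PSU.Levi Cfsg.Agent.H113.PSU.Facts Cfsg.Agent.H477.HC

universe u

section Tools

variable {G : Type u} [Group G] [Finite G]

/-- the Steinberg degree -/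
theorem st_mem {p : ℕ} [Fact p.Prime] (h : H167.StChar.HasSt p G) :
    p ^ (Nat.card G).factorization p ∈ charDegrees G := by
  obtain ⟨χ, hχ, h1, -⟩ := h
  exact H677.Tri42.deg_of_one hχ h1

theorem psu_simple {F : Type} [Field F] [Fintype F] (hF : Fintype.card F = 2 ^ 2) {n : ℕ} (hn : 4 ≤ n) :
    IsSimpleGroup (PSU n F 2) :=
  S0283.result hF n (by omega) (by rintro ⟨h, -⟩; omega)

theorem charTwo {F : Type} [Field F] [Fintype F] (hF : Fintype.card F = 2 ^ 2) : CharP F 2 := by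
  obtain ⟨p, hp⟩ := CharP.exists F
  have hpr : p.Prime := (CharP.char_is_prime_or_zero F p).resolve_right (CharP.char_ne_zero_of_finite F p)
  have : Fact p.Prime := ⟨hpr⟩
  obtain ⟨s, -, hs⟩ := FiniteField.card F p
  rw [hF] at hs
  have h1 : p ∣ 2 ^ 2 := by rw [hs]; exact dvd_pow_self _ s.2.ne'
  have h2 : p = 2 := (Nat.prime_dvd_prime_iff_eq hpr Nat.prime_two).1 (hpr.dvd_of_dvd_pow h1)
  rwa [h2] at hp

theorem lie_psu {F : Type} [Field F] [Fintype F] (hF : Fintype.card F = 2 ^ 2) {n : ℕ} (hn : 4 ≤ n) :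
    IsLieTypeChar 2 (PSU n F 2) := by
  have := charTwo hF
  refine Or.inr (Or.inr (Or.inl ⟨F, inferInstance, inferInstance, this, n, 2, hF, by omega, ?_, ⟨MulEquiv.refl _⟩⟩))
  rintro ⟨h, -⟩
  omega

theorem st_psu {F : Type} [Field F] [Fintype F] (hF : Fintype.card F = 2 ^ 2) {n N k m : ℕ} (hn : 4 ≤ n)
    (hN : Nat.card (PSU n F 2) = N) (h : N = 2 ^ k * m) (hm : ¬ 2 ∣ m) : 2 ^ k ∈ charDegrees (PSU n F 2) := by
  have := psu_simple hF hn
  have h2 : Fact (Nat.Prime 2) := ⟨Nat.prime_two⟩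
  have h1 := st_mem (H167.StChar.hasSt_of_lie Nat.prime_two (lie_psu hF hn))
  have h3 : m ≠ 0 := by rintro rfl; exact hm (dvd_zero _)
  rwa [hN, h, Nat.factorization_mul (by positivity) h3, Nat.Prime.factorization_pow Nat.prime_two,
    Finsupp.add_apply, Finsupp.single_eq_same, Nat.factorization_eq_zero_of_not_dvd hm, add_zero] at h1

/-- the Harish-Chandra induced cuspidal characters -/
theorem hc_deg {F : Type} [Field F] [Fintype F] (hF : Fintype.card F = 2 ^ 2) (hq : Nat.card F = 2 ^ 2) {k n' : ℕ}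
    (hk : 2 ≤ k) : ∃ d ∈ charDegrees (PSU (k + (k + n')) F 2), ∃ t, t ∣ 3 ∧
      d * t = dg (CForm.hermF F hq (k + (k + n'))) k := by
  obtain ⟨c, hc⟩ := hasCusU F 2 hq k hk
  obtain ⟨χ, hχ, hχ1, hχz⟩ := gu_char (n' := n') hq hc
  obtain ⟨η, e, hη, he, he0, hed, hdt⟩ := H113.PSU.Descent.exists_psu hF (by omega) hχ hχ1 hχz
  exact ⟨e, H677.Tri42.deg_of_one hη he, _, hdt, Nat.mul_div_cancel' hed⟩

/-- the divisibility and the bound for the degree -/
theorem hc_dvd {F : Type} [Field F] [Fintype F] (hF : Fintype.card F = 2 ^ 2) (hq : Nat.card F = 2 ^ 2) {k n' M : ℕ}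
    (hk : 2 ≤ k) (hM : Odd M) (h : M * (2 ^ (2 * k) - 1) ∣ ∏ i ∈ Finset.Ico n' (k + (k + n')), uu 2 (i + 1)) :
    M ∣ dg (CForm.hermF F hq (k + (k + n'))) k := by
  have := charTwo hF
  have h2 : Fact (Nat.Prime 2) := ⟨Nat.prime_two⟩
  obtain ⟨e, he⟩ := dvd_dg hq (p := 2) (k := k) (n' := n') (by omega)
  have h1 : 1 < 2 ^ (2 * k) := Nat.one_lt_pow (by omega) (by omega)
  have h3 := h.trans he
  rw [← mul_assoc] at h3
  have h4 := Nat.dvd_of_mul_dvd_mul_right (by omega) h3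
  exact (Nat.Coprime.pow_right e (Nat.coprime_two_right.2 hM)).dvd_of_dvd_mul_left h4

theorem dg_two_le {F : Type} [Field F] [Fintype F] (hq : Nat.card F = 2 ^ 2) (n : ℕ)
    {N : ℕ} (hN : Nat.card {v : Fin n → F // hermForm n F 2 v v = 0} = N) :
    60 * dg (CForm.hermF F hq n) 2 ≤ N * N := by
  classical
  have h1 := H362.Dl.card_tup (CForm.hermF F hq n) 2
  have h2 : Nat.card (H362.Dl.Tup (CForm.hermF F hq n) 2) ≤ N * N := by
    rw [← hN, ← Nat.card_prod]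
    refine Nat.card_le_card_of_injective (fun s => (⟨s.1 0, s.2.2.1 0⟩, ⟨s.1 1, s.2.2.1 1⟩)) fun s s' h => ?_
    apply Subtype.ext
    funext i
    have h3 := congrArg Prod.fst h
    have h4 := congrArg Prod.snd h
    have h3' : s.1 0 = s'.1 0 := congrArg Subtype.val h3
    have h4' : s.1 1 = s'.1 1 := congrArg Subtype.val h4
    fin_cases i
    · exact h3'
    · exact h4'
  rw [h1, hq] at h2
  norm_num [Finset.prod_range_succ] at h2
  unfold dg
  rw [hq]
  norm_num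
  omega

theorem zero_not_mem : ¬ 0 ∈ charDegrees G := by
  rintro ⟨χ, hχ⟩
  exact (Blocks.Basic.charDegree_pos χ.2).ne' hχ

/-- a new member of a list of degrees -/
theorem exists_new {l : List ℤ} {a b : ℤ} (hab : a ≠ b) (ha : a ∈ l) (hb : b ∈ l) :
    ∃ l' : List ℤ, l.Perm (a :: b :: l') := by
  have h1 := List.perm_cons_erase ha
  have h2 : b ∈ l.erase a := (List.mem_erase_of_ne hab.symm).2 hb
  exact ⟨(l.erase a).erase b, h1.trans (List.Perm.cons a (List.perm_cons_erase h2))⟩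

end Tools

section Rows

variable {F : Type} [Field F] [Fintype F]

/-! ### `PSU_5(2)` -/

/-- the degrees which may occur, up to sign, in the principal `11`-block of `PSU_5(2)` -/
def cand5 : List ℕ := (List.range 3700).filter fun d => decide (3 ≤ d) && 13685760 % d == 0 && (d % 11 == 1 || d % 11 == 10)

/-- the signed degree -/
def sg5 (d : ℕ) : ℤ := if d % 11 = 1 then d else -d

/-- the search for the remaining members of the principal `11`-block of `PSU_5(2)` -/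
def ok5 : Bool := cand5.all fun a => cand5.all fun b =>
  !(decide ((905 + sg5 a + sg5 b).natAbs ≠ 0) && 13685760 % (905 + sg5 a + sg5 b).natAbs == 0 &&
    decide (a ^ 2 + b ^ 2 + 2 * (905 + sg5 a + sg5 b).natAbs ^ 2 ≤ 12622783)) ||
  (decide (a ≠ b) && !([120, 1024].contains a) && !([120, 1024].contains b))

theorem ok5_true : ok5 = true := by decide +kernel

theorem card_u5 (hF : Fintype.card F = 2 ^ 2) : Nat.card (PSU 5 F 2) = 13685760 := by
  have h := S0280.result hF 5 (by norm_num)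
  rw [show Nat.gcd 5 (2 + 1) = 1 by decide] at h
  simp only [Finset.prod_range_succ, Finset.prod_range_zero] at h
  norm_num [Nat.even_iff] at h
  omega

theorem arith5 {x y : ℤ} {a b f : ℕ} (ha : a = x.natAbs) (hb : b = y.natAbs) (hf : f = (905 + x + y).natAbs)
    (x1 : x % 11 = 1) (y1 : y % 11 = 1) (f1 : (905 + x + y) % 11 = 5) (x2 : a ∣ 13685760) (y2 : b ∣ 13685760)
    (f2 : f ∣ 13685760) (x4 : 3 ≤ a) (y4 : 3 ≤ b) (hsq : a ^ 2 + b ^ 2 + 2 * f ^ 2 ≤ 12622783) :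
    a ≠ b ∧ a ≠ 120 ∧ a ≠ 1024 ∧ b ≠ 120 ∧ b ≠ 1024 := by
  have x5 : a % 11 = 1 ∨ a % 11 = 10 := by omega
  have y5 : b % 11 = 1 ∨ b % 11 = 10 := by omega
  have x6 : sg5 a = x := by unfold sg5; split_ifs <;> omega
  have y6 : sg5 b = y := by unfold sg5; split_ifs <;> omega
  have f6 : f % 11 = 5 ∨ f % 11 = 6 := by omega
  have hab : ∀ c : ℕ, 3 ≤ c → c ∣ 13685760 → (c % 11 = 1 ∨ c % 11 = 10) → c ^ 2 ≤ 12622783 → c ∈ cand5 := by
    intro c c1 c2 c3 c4
    have c5 : c < 3700 := by nlinarith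
    unfold cand5
    rw [List.mem_filter, List.mem_range]
    refine ⟨c5, ?_⟩
    simp only [Bool.and_eq_true, Bool.or_eq_true, decide_eq_true_eq, beq_iff_eq]
    exact ⟨⟨c1, Nat.mod_eq_zero_of_dvd c2⟩, c3⟩
  have ka := hab a x4 x2 x5 (by nlinarith)
  have kb := hab b y4 y2 y5 (by nlinarith)
  have hok := ok5_true
  unfold ok5 at hok
  rw [List.all_eq_true] at hok
  have hok := hok a ka
  rw [List.all_eq_true] at hok
  have hok := hok b kb
  rw [x6, y6, ← hf] at hok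
  have hf0 : f ≠ 0 := by omega
  rw [Bool.or_eq_true] at hok
  rcases hok with h | h
  · exfalso
    rw [Bool.not_eq_true', Bool.and_eq_false_iff, Bool.and_eq_false_iff, decide_eq_false_iff_not,
      decide_eq_false_iff_not, beq_eq_false_iff_ne] at h
    rcases h with (h | h) | h
    · exact h hf0
    · exact h (Nat.mod_eq_zero_of_dvd f2)
    · exact h hsq
  · rw [Bool.and_eq_true, Bool.and_eq_true, decide_eq_true_eq, Bool.not_eq_true', Bool.not_eq_true',
      List.contains_eq_mem, List.contains_eq_mem, decide_eq_false_iff_not, decide_eq_false_iff_not] at h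
    simp only [List.mem_cons, List.not_mem_nil, or_false, not_or] at h
    obtain ⟨⟨k1, k2, k3⟩, k4, k5⟩ := h
    exact ⟨k1, k2, k3, k4, k5⟩

theorem distinct5 {a b f d w : ℕ} (ha : a % 11 = 1 ∨ a % 11 = 10) (hb : b % 11 = 1 ∨ b % 11 = 10)
    (hf : f % 11 = 5 ∨ f % 11 = 6) (hw : 3 * d = 891 * w) (hd0 : d ≠ 0) (ha3 : 3 ≤ a) (hb3 : 3 ≤ b)
    (h : a ≠ b ∧ a ≠ 120 ∧ a ≠ 1024 ∧ b ≠ 120 ∧ b ≠ 1024) : [1, 44, 120, 1024, d, a, b, f].Nodup := by
  obtain ⟨k1, k2, k3, k4, k5⟩ := h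
  simp only [List.nodup_cons, List.mem_cons, List.not_mem_nil, or_false, not_or, List.nodup_nil, and_true,
    not_false_eq_true]
  refine ⟨⟨?_, ?_, ?_, ?_, ?_, ?_, ?_⟩, ⟨?_, ?_, ?_, ?_, ?_, ?_⟩, ⟨?_, ?_, ?_, ?_, ?_⟩, ⟨?_, ?_, ?_, ?_⟩, ⟨?_, ?_, ?_⟩,
    ⟨?_, ?_⟩, ?_⟩ <;> omega

theorem lines5 (hF : Fintype.card F = 2 ^ 2) : ∃ d ∈ charDegrees (PSU 5 F 2), ∃ w, 3 * d = 891 * w := by
  have hq : Nat.card F = 2 ^ 2 := by rw [Nat.card_eq_fintype_card, hF]
  obtain ⟨d, hd, t, ht3, hdt⟩ := hc_deg hF hq (k := 2) (n' := 1) le_rfl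
  have h891 := hc_dvd hF hq (k := 2) (n' := 1) (M := 891) le_rfl (by decide) (by
    rw [Finset.prod_Ico_eq_prod_range]
    norm_num [Finset.prod_range_succ, uu, Nat.even_iff])
  obtain ⟨w, hw⟩ : 891 ∣ 3 * d := h891.trans (by rw [← hdt, mul_comm 3]; exact mul_dvd_mul_left d ht3)
  exact ⟨d, hd, w, hw⟩

theorem rank3_5 (hF : Fintype.card F = 2 ^ 2) : 44 ∈ charDegrees (PSU 5 F 2) ∧ 120 ∈ charDegrees (PSU 5 F 2) := by
  obtain ⟨φF, hφF⟩ := exF (n := 5) hF (by norm_num)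
  obtain ⟨φG, hφG⟩ := exG (n := 5) hF (by norm_num)
  norm_num [uu, Nat.even_iff] at hφF hφG
  exact ⟨⟨φF, by omega⟩, ⟨φG, by omega⟩⟩

theorem block5 (hF : Fintype.card F = 2 ^ 2) (h120 : 120 ∈ charDegrees (PSU 5 F 2))
    (hst : 1024 ∈ charDegrees (PSU 5 F 2)) : ∃ a ∈ charDegrees (PSU 5 F 2), ∃ b ∈ charDegrees (PSU 5 F 2),
    ∃ f ∈ charDegrees (PSU 5 F 2), (a % 11 = 1 ∨ a % 11 = 10) ∧ (b % 11 = 1 ∨ b % 11 = 10) ∧ (f % 11 = 5 ∨ f % 11 = 6) ∧
      3 ≤ a ∧ 3 ≤ b ∧ (a ≠ b ∧ a ≠ 120 ∧ a ≠ 1024 ∧ b ≠ 120 ∧ b ≠ 1024) := by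
  have hS := psu_simple hF (n := 5) (by norm_num)
  have hc := card_u5 hF
  have h11 : Fact (Nat.Prime 11) := ⟨by norm_num⟩
  obtain ⟨M, P, hM, hP, hC, ⟨D⟩⟩ := exists_blk (G := PSU 5 F 2) (p := 11) (by norm_num)
    (H809.SelfCent.psu_irred hF (by norm_num) (by decide) (by norm_num) (by norm_num) (by norm_num)
      (by norm_num) (by norm_num) (k := 341) (by norm_num) (by norm_num) (by decide) (by norm_num) (by norm_num))
    (by rw [hc]; norm_num) (e := 5) (t := 2) (by norm_num) (by rw [hc])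
  have m1 : (-120 : ℤ) ∈ D.degs := mem_degs hM D hP hC rfl (d := -120) h120 (by decide) (by decide) (by decide)
    (by decide) (by decide)
  have m2 : (1024 : ℤ) ∈ D.degs := mem_degs hM D hP hC rfl (d := 1024) hst (by decide) (by decide) (by decide)
    (by decide) (by decide)
  obtain ⟨l', hl'⟩ := exists_new (by norm_num) m1 m2
  have hlen := D.length_degs
  rw [hl'.length_eq, List.length_cons, List.length_cons] at hlen
  obtain ⟨x, y, rfl⟩ := List.length_eq_two.1 (by omega : l'.length = 2)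
  have hsum := hl'.sum_eq
  have hsq := D.sum_sq_le
  rw [(hl'.map (· ^ 2)).sum_eq, hc] at hsq
  have hx : x ∈ D.degs := hl'.mem_iff.2 (by simp)
  have hy : y ∈ D.degs := hl'.mem_iff.2 (by simp)
  simp only [List.map_cons, List.map_nil, List.sum_cons, List.sum_nil] at hsq hsum
  have hN : ¬ (Nat.card (PSU 5 F 2)).Prime := by rw [hc]; norm_num
  have h2N : 2 ∣ Nat.card (PSU 5 F 2) := by rw [hc]; norm_num
  obtain ⟨x1, x2, x3⟩ := D.degs_spec hP x hx
  obtain ⟨y1, y2, y3⟩ := D.degs_spec hP y hy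
  have x4 := BlockTools.degs_three_le hN h2N D x hx
  have y4 := BlockTools.degs_three_le hN h2N D y hy
  have f1 := D.dexc_modEq hP rfl
  have f2 := D.f_dvd rfl
  have f3 := BlockTools.dexc_mem D rfl
  have f4 := D.natAbs_dexc
  rw [← D.dexc_eq rfl] at f1 f4
  have f5 : 1 + D.degs.sum = 905 + x + y := by rw [hsum]; ring
  rw [f5] at f1 f3 f4
  rw [hc] at x2 y2 f2
  have hxm := BlockTools.degs_mem D hx
  have hym := BlockTools.degs_mem D hy
  rw [← f4] at hsq f2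
  obtain ⟨a, ha⟩ : ∃ a, a = x.natAbs := ⟨_, rfl⟩
  obtain ⟨b, hb⟩ : ∃ b, b = y.natAbs := ⟨_, rfl⟩
  obtain ⟨f, hf⟩ : ∃ f, f = (905 + x + y).natAbs := ⟨_, rfl⟩
  rw [← ha] at hxm x2 x4
  rw [← hb] at hym y2 y4
  rw [← hf] at f2 f3 hsq
  have e1 : (x : ℤ) ^ 2 = (a : ℤ) ^ 2 := by rw [ha, Int.natAbs_pow_two]
  have e2 : (y : ℤ) ^ 2 = (b : ℤ) ^ 2 := by rw [hb, Int.natAbs_pow_two]
  rw [e1, e2] at hsq
  have hsq' : a ^ 2 + b ^ 2 + 2 * f ^ 2 ≤ 12622783 := by
    zify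
    push_cast at hsq
    linarith
  unfold Int.ModEq at x1 y1 f1
  norm_num at x1 y1 f1
  refine ⟨a, hxm, b, hym, f, f3, by omega, by omega, by omega, x4, y4,
    arith5 ha hb hf x1 y1 f1 x2 y2 f2 x4 y4 hsq'⟩

theorem eight_u52 (hF : Fintype.card F = 2 ^ 2) : Eight (PSU 5 F 2) := by
  have hst : 2 ^ 10 ∈ charDegrees (PSU 5 F 2) :=
    st_psu hF (by norm_num) (card_u5 hF) (k := 10) (m := 13365) (by norm_num) (by norm_num)
  norm_num at hst
  obtain ⟨h44, h120⟩ := rank3_5 hF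
  obtain ⟨d, hd, w, hw⟩ := lines5 hF
  obtain ⟨a, ha, b, hb, f, hf, a1, b1, f1, a3, b3, h⟩ := block5 hF h120 hst
  have hS := psu_simple hF (n := 5) (by norm_num)
  refine eight_of_list [1, 44, 120, 1024, d, a, b, f] (distinct5 a1 b1 f1 hw ?_ a3 b3 h) le_rfl ?_
  · rintro rfl
    exact zero_not_mem hd
  · simp only [List.mem_cons, List.not_mem_nil, or_false]
    rintro c (rfl | rfl | rfl | rfl | rfl | rfl | rfl | rfl)
    · exact one_mem
    · exact h44
    · exact h120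
    · exact hst
    · exact hd
    · exact ha
    · exact hb
    · exact hf

/-! ### `PSU_6(2)` -/

theorem card_u6 (hF : Fintype.card F = 2 ^ 2) : Nat.card (PSU 6 F 2) = 9196830720 := by
  have h := S0280.result hF 6 (by norm_num)
  rw [show Nat.gcd 6 (2 + 1) = 3 by decide] at h
  simp only [Finset.prod_range_succ, Finset.prod_range_zero] at h
  norm_num [Nat.even_iff] at h
  omega

theorem rank3_6 (hF : Fintype.card F = 2 ^ 2) : 252 ∈ charDegrees (PSU 6 F 2) ∧ 440 ∈ charDegrees (PSU 6 F 2) := by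
  obtain ⟨φF, hφF⟩ := exF (n := 6) hF (by norm_num)
  obtain ⟨φG, hφG⟩ := exG (n := 6) hF (by norm_num)
  norm_num [uu, Nat.even_iff] at hφF hφG
  exact ⟨⟨φF, by omega⟩, ⟨φG, by omega⟩⟩

/-- the two Harish-Chandra induced cuspidal characters -/
theorem lines6 (hF : Fintype.card F = 2 ^ 2) : ∃ d ∈ charDegrees (PSU 6 F 2), ∃ d' ∈ charDegrees (PSU 6 F 2),
    6237 ∣ d ∧ 13365 ∣ d' ∧ d ≠ d' ∧ d ≠ 0 ∧ d' ≠ 0 := by
  have hq : Nat.card F = 2 ^ 2 := by rw [Nat.card_eq_fintype_card, hF]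
  have hS := psu_simple hF (n := 6) (by norm_num)
  obtain ⟨d, hd, t, ht3, hdt⟩ := hc_deg hF hq (k := 2) (n' := 2) le_rfl
  have h1 := hc_dvd hF hq (k := 2) (n' := 2) (M := 18711) le_rfl (by decide) (by
    rw [Finset.prod_Ico_eq_prod_range]
    norm_num [Finset.prod_range_succ, uu, Nat.even_iff])
  obtain ⟨w, hw⟩ : 18711 ∣ 3 * d := h1.trans (by rw [← hdt, mul_comm 3]; exact mul_dvd_mul_left d ht3)
  obtain ⟨d', hd', t', ht3', hdt'⟩ := hc_deg hF hq (k := 3) (n' := 0) (by norm_num)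
  have h1' := hc_dvd hF hq (k := 3) (n' := 0) (M := 40095) (by norm_num) (by decide) (by
    rw [Finset.prod_Ico_eq_prod_range]
    norm_num [Finset.prod_range_succ, uu, Nat.even_iff])
  obtain ⟨w', hw'⟩ : 40095 ∣ 3 * d' := h1'.trans (by rw [← hdt', mul_comm 3]; exact mul_dvd_mul_left d' ht3')
  have hb := dg_two_le hq 6 (S0285.result hF 6)
  norm_num [Nat.even_iff] at hb
  have hd0 : d ≠ 0 := by rintro rfl; exact zero_not_mem hd
  have hd0' : d' ≠ 0 := by rintro rfl; exact zero_not_mem hd'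
  have ht0 : 0 < t := Nat.pos_of_dvd_of_pos ht3 (by norm_num)
  have h2 : 6237 ∣ d := ⟨w, by omega⟩
  have h3 : 13365 ∣ d' := ⟨w', by omega⟩
  refine ⟨d, hd, d', hd', h2, h3, ?_, hd0, hd0'⟩
  intro h
  have h4 : d ≤ dg (CForm.hermF F hq 6) 2 := hdt.symm ▸ Nat.le_mul_of_pos_right d ht0
  have h5 : Nat.lcm 6237 13365 ∣ d := Nat.lcm_dvd h2 (h ▸ h3)
  have h6 : Nat.lcm 6237 13365 = 93555 := by norm_num
  rw [h6] at h5
  have h7 := Nat.le_of_dvd (Nat.pos_of_ne_zero hd0) h5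
  omega

theorem block6 (hF : Fintype.card F = 2 ^ 2) (h252 : 252 ∈ charDegrees (PSU 6 F 2))
    (hst : 32768 ∈ charDegrees (PSU 6 F 2)) : ∃ a ∈ charDegrees (PSU 6 F 2),
    ∃ f ∈ charDegrees (PSU 6 F 2), (a % 11 = 1 ∨ a % 11 = 10) ∧ (f % 11 = 5 ∨ f % 11 = 6) ∧
      3 ≤ a ∧ a ≠ 252 ∧ a ≠ 32768 := by
  have hS := psu_simple hF (n := 6) (by norm_num)
  have hc := card_u6 hF
  have h11 : Fact (Nat.Prime 11) := ⟨by norm_num⟩
  obtain ⟨M, P, hM, hP, hC, ⟨D⟩⟩ := exists_blk (G := PSU 6 F 2) (p := 11) (by norm_num)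
    (H809.SelfCent.psu_selfcent 6 2 11 (by decide) F hF)
    (by rw [hc]; norm_num) (e := 5) (t := 2) (by norm_num) (by rw [hc])
  have m1 : (-252 : ℤ) ∈ D.degs := mem_degs hM D hP hC rfl (d := -252) h252 (by decide) (by decide) (by decide)
    (by decide) (by decide)
  have m2 : (-32768 : ℤ) ∈ D.degs := mem_degs hM D hP hC rfl (d := -32768) hst (by decide) (by decide) (by decide)
    (by decide) (by decide)
  obtain ⟨l', hl'⟩ := exists_new (by norm_num) m1 m2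
  have hlen := D.length_degs
  rw [hl'.length_eq, List.length_cons, List.length_cons] at hlen
  obtain ⟨x, y, rfl⟩ := List.length_eq_two.1 (by omega : l'.length = 2)
  have hsum := hl'.sum_eq
  simp only [List.sum_cons, List.sum_nil] at hsum
  have hN : ¬ (Nat.card (PSU 6 F 2)).Prime := by rw [hc]; norm_num
  have h2N : 2 ∣ Nat.card (PSU 6 F 2) := by rw [hc]; norm_num
  have f1 := D.dexc_modEq hP rfl
  have f2 := D.f_dvd rfl
  have f3 := BlockTools.dexc_mem D rfl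
  have f4 := D.natAbs_dexc
  rw [← D.dexc_eq rfl] at f1 f4
  have f5 : 1 + D.degs.sum = -33019 + x + y := by rw [hsum]; ring
  rw [f5] at f1 f3 f4
  rw [hc] at f2
  rw [← f4] at f2
  unfold Int.ModEq at f1
  have hnew : ∃ z ∈ D.degs, z ≠ -252 ∧ z ≠ -32768 := by
    have hx : x ∈ D.degs := hl'.mem_iff.2 (by simp)
    have hy : y ∈ D.degs := hl'.mem_iff.2 (by simp)
    by_contra hno
    push Not at hno
    have hx' : x = -252 ∨ x = -32768 := or_iff_not_imp_left.2 (hno x hx)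
    have hy' : y = -252 ∨ y = -32768 := or_iff_not_imp_left.2 (hno y hy)
    rcases hx' with rfl | rfl <;> rcases hy' with rfl | rfl <;> norm_num at f2
  obtain ⟨z, hz, z1, z2⟩ := hnew
  obtain ⟨z3, z4, z5⟩ := D.degs_spec hP z hz
  have z6 := BlockTools.degs_three_le hN h2N D z hz
  unfold Int.ModEq at z3
  refine ⟨z.natAbs, BlockTools.degs_mem D hz, _, f3, ?_, ?_, z6, ?_, ?_⟩ <;> omega

theorem distinct6 {a f d d' : ℕ} (ha : a % 11 = 1 ∨ a % 11 = 10) (hf : f % 11 = 5 ∨ f % 11 = 6) (h1 : 6237 ∣ d)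
    (h2 : 13365 ∣ d') (h3 : d ≠ d') (hd0 : d ≠ 0) (hd0' : d' ≠ 0) (ha3 : 3 ≤ a) (h4 : a ≠ 252) (h5 : a ≠ 32768) :
    [1, 252, 440, 32768, d, d', a, f].Nodup := by
  simp only [List.nodup_cons, List.mem_cons, List.not_mem_nil, or_false, not_or, List.nodup_nil, and_true,
    not_false_eq_true]
  refine ⟨⟨?_, ?_, ?_, ?_, ?_, ?_, ?_⟩, ⟨?_, ?_, ?_, ?_, ?_, ?_⟩, ⟨?_, ?_, ?_, ?_, ?_⟩, ⟨?_, ?_, ?_, ?_⟩, ⟨?_, ?_, ?_⟩,
    ⟨?_, ?_⟩, ?_⟩ <;> omega

theorem eight_u62 (hF : Fintype.card F = 2 ^ 2) : Eight (PSU 6 F 2) := by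
  have hst : 2 ^ 15 ∈ charDegrees (PSU 6 F 2) :=
    st_psu hF (by norm_num) (card_u6 hF) (k := 15) (m := 280665) (by norm_num) (by norm_num)
  norm_num at hst
  obtain ⟨h252, h440⟩ := rank3_6 hF
  obtain ⟨d, hd, d', hd', h1, h2, h3, hd0, hd0'⟩ := lines6 hF
  obtain ⟨a, ha, f, hf, a1, f1, a3, h4, h5⟩ := block6 hF h252 hst
  refine eight_of_list [1, 252, 440, 32768, d, d', a, f] (distinct6 a1 f1 h1 h2 h3 hd0 hd0' a3 h4 h5) le_rfl ?_
  simp only [List.mem_cons, List.not_mem_nil, or_false]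
  rintro c (rfl | rfl | rfl | rfl | rfl | rfl | rfl | rfl)
  · exact one_mem
  · exact h252
  · exact h440
  · exact hst
  · exact hd
  · exact hd'
  · exact ha
  · exact hf

/-! ### `PSU_7(2)` -/

theorem card_u7 (hF : Fintype.card F = 2 ^ 2) : Nat.card (PSU 7 F 2) = 227787103272960 := by
  have h := S0280.result hF 7 (by norm_num)
  rw [show Nat.gcd 7 (2 + 1) = 1 by decide] at h
  simp only [Finset.prod_range_succ, Finset.prod_range_zero] at h
  norm_num [Nat.even_iff] at h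
  omega

theorem rank3_7 (hF : Fintype.card F = 2 ^ 2) : 860 ∈ charDegrees (PSU 7 F 2) ∧ 1848 ∈ charDegrees (PSU 7 F 2) := by
  obtain ⟨φF, hφF⟩ := exF (n := 7) hF (by norm_num)
  obtain ⟨φG, hφG⟩ := exG (n := 7) hF (by norm_num)
  norm_num [uu, Nat.even_iff] at hφF hφG
  exact ⟨⟨φF, by omega⟩, ⟨φG, by omega⟩⟩

/-- the two Harish-Chandra induced cuspidal characters -/
theorem lines7 (hF : Fintype.card F = 2 ^ 2) : ∃ d ∈ charDegrees (PSU 7 F 2), ∃ d' ∈ charDegrees (PSU 7 F 2),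
    89397 ∣ d ∧ 574695 ∣ d' ∧ d ≠ d' ∧ d ≠ 0 ∧ d' ≠ 0 := by
  have hq : Nat.card F = 2 ^ 2 := by rw [Nat.card_eq_fintype_card, hF]
  have hS := psu_simple hF (n := 7) (by norm_num)
  obtain ⟨d, hd, t, ht3, hdt⟩ := hc_deg hF hq (k := 2) (n' := 3) le_rfl
  have h1 := hc_dvd hF hq (k := 2) (n' := 3) (M := 268191) le_rfl (by decide) (by
    rw [Finset.prod_Ico_eq_prod_range]
    norm_num [Finset.prod_range_succ, uu, Nat.even_iff])
  obtain ⟨w, hw⟩ : 268191 ∣ 3 * d := h1.trans (by rw [← hdt, mul_comm 3]; exact mul_dvd_mul_left d ht3)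
  obtain ⟨d', hd', t', ht3', hdt'⟩ := hc_deg hF hq (k := 3) (n' := 1) (by norm_num)
  have h1' := hc_dvd hF hq (k := 3) (n' := 1) (M := 1724085) (by norm_num) (by decide) (by
    rw [Finset.prod_Ico_eq_prod_range]
    norm_num [Finset.prod_range_succ, uu, Nat.even_iff])
  obtain ⟨w', hw'⟩ : 1724085 ∣ 3 * d' := h1'.trans (by rw [← hdt', mul_comm 3]; exact mul_dvd_mul_left d' ht3')
  have hb := dg_two_le hq 7 (S0285.result hF 7)
  norm_num [Nat.even_iff] at hb
  have hd0 : d ≠ 0 := by rintro rfl; exact zero_not_mem hd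
  have hd0' : d' ≠ 0 := by rintro rfl; exact zero_not_mem hd'
  have ht0 : 0 < t := Nat.pos_of_dvd_of_pos ht3 (by norm_num)
  have h2 : 89397 ∣ d := ⟨w, by omega⟩
  have h3 : 574695 ∣ d' := ⟨w', by omega⟩
  refine ⟨d, hd, d', hd', h2, h3, ?_, hd0, hd0'⟩
  intro h
  have h4 : d ≤ dg (CForm.hermF F hq 7) 2 := hdt.symm ▸ Nat.le_mul_of_pos_right d ht0
  have h5 : Nat.lcm 89397 574695 ∣ d := Nat.lcm_dvd h2 (h ▸ h3)
  have h6 : Nat.lcm 89397 574695 = 4022865 := by norm_num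
  rw [h6] at h5
  have h7 := Nat.le_of_dvd (Nat.pos_of_ne_zero hd0) h5
  omega

theorem block7 (hF : Fintype.card F = 2 ^ 2) (h1848 : 1848 ∈ charDegrees (PSU 7 F 2))
    (hst : 2097152 ∈ charDegrees (PSU 7 F 2)) : ∃ a ∈ charDegrees (PSU 7 F 2),
    ∃ f ∈ charDegrees (PSU 7 F 2), (a % 43 = 1 ∨ a % 43 = 42) ∧ (f % 43 = 7 ∨ f % 43 = 36) ∧
      3 ≤ a ∧ a ≠ 1848 ∧ a ≠ 2097152 := by
  have hS := psu_simple hF (n := 7) (by norm_num)
  have hc := card_u7 hF
  have h43 : Fact (Nat.Prime 43) := ⟨by norm_num⟩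
  obtain ⟨M, P, hM, hP, hC, ⟨D⟩⟩ := exists_blk (G := PSU 7 F 2) (p := 43) (by norm_num)
    (H809.SelfCent.psu_irred hF (by norm_num) (by decide) (by norm_num) (by norm_num) (by norm_num)
      (by norm_num) (by norm_num) (k := 5461) (by norm_num) (by norm_num) (by decide) (by norm_num) (by norm_num))
    (by rw [hc]; norm_num) (e := 7) (t := 6) (by norm_num) (by rw [hc])
  have m1 : (-1848 : ℤ) ∈ D.degs := mem_degs hM D hP hC rfl (d := -1848) h1848 (by decide) (by decide) (by decide)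
    (by decide) (by decide)
  have m2 : (-2097152 : ℤ) ∈ D.degs := mem_degs hM D hP hC rfl (d := -2097152) hst (by decide) (by decide) (by decide)
    (by decide) (by decide)
  obtain ⟨l', hl'⟩ := exists_new (by norm_num) m1 m2
  have hlen := D.length_degs
  rw [hl'.length_eq, List.length_cons, List.length_cons] at hlen
  obtain ⟨x, l₁, rfl⟩ : ∃ x l, l' = x :: l := List.exists_cons_of_length_pos (by omega) |>.imp fun _ h => h
  obtain ⟨y, l₂, rfl⟩ : ∃ x l, l₁ = x :: l := List.exists_cons_of_length_pos (by rw [List.length_cons] at hlen; omega)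
  rw [List.length_cons, List.length_cons] at hlen
  obtain ⟨z, u, rfl⟩ := List.length_eq_two.1 (by omega : l₂.length = 2)
  have hsum := hl'.sum_eq
  simp only [List.sum_cons, List.sum_nil] at hsum
  have hN : ¬ (Nat.card (PSU 7 F 2)).Prime := by rw [hc]; norm_num
  have h2N : 2 ∣ Nat.card (PSU 7 F 2) := by rw [hc]; norm_num
  have f1 := D.dexc_modEq hP rfl
  have f2 := D.f_dvd rfl
  have f3 := BlockTools.dexc_mem D rfl
  have f4 := D.natAbs_dexc
  rw [← D.dexc_eq rfl] at f1 f4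
  have f5 : 1 + D.degs.sum = -2098999 + x + y + z + u := by rw [hsum]; ring
  rw [f5] at f1 f3 f4
  rw [hc] at f2
  rw [← f4] at f2
  unfold Int.ModEq at f1
  have hnew : ∃ z ∈ D.degs, z ≠ -1848 ∧ z ≠ -2097152 := by
    have hx : x ∈ D.degs := hl'.mem_iff.2 (by simp)
    have hy : y ∈ D.degs := hl'.mem_iff.2 (by simp)
    have hz : z ∈ D.degs := hl'.mem_iff.2 (by simp)
    have hu : u ∈ D.degs := hl'.mem_iff.2 (by simp)
    by_contra hno
    push Not at hno
    have hx' : x = -1848 ∨ x = -2097152 := or_iff_not_imp_left.2 (hno x hx)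
    have hy' : y = -1848 ∨ y = -2097152 := or_iff_not_imp_left.2 (hno y hy)
    have hz' : z = -1848 ∨ z = -2097152 := or_iff_not_imp_left.2 (hno z hz)
    have hu' : u = -1848 ∨ u = -2097152 := or_iff_not_imp_left.2 (hno u hu)
    rcases hx' with rfl | rfl <;> rcases hy' with rfl | rfl <;> rcases hz' with rfl | rfl <;>
      rcases hu' with rfl | rfl <;> norm_num at f2
  obtain ⟨v, hv, v1, v2⟩ := hnew
  obtain ⟨v3, v4, v5⟩ := D.degs_spec hP v hv
  have v6 := BlockTools.degs_three_le hN h2N D v hv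
  unfold Int.ModEq at v3
  refine ⟨v.natAbs, BlockTools.degs_mem D hv, _, f3, ?_, ?_, v6, ?_, ?_⟩ <;> omega

theorem distinct7 {a f d d' : ℕ} (ha : a % 43 = 1 ∨ a % 43 = 42) (hf : f % 43 = 7 ∨ f % 43 = 36) (h1 : 89397 ∣ d)
    (h2 : 574695 ∣ d') (h3 : d ≠ d') (hd0 : d ≠ 0) (hd0' : d' ≠ 0) (ha3 : 3 ≤ a) (h4 : a ≠ 1848) (h5 : a ≠ 2097152) :
    [1, 860, 1848, 2097152, d, d', a, f].Nodup := by
  simp only [List.nodup_cons, List.mem_cons, List.not_mem_nil, or_false, not_or, List.nodup_nil, and_true,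
    not_false_eq_true]
  refine ⟨⟨?_, ?_, ?_, ?_, ?_, ?_, ?_⟩, ⟨?_, ?_, ?_, ?_, ?_, ?_⟩, ⟨?_, ?_, ?_, ?_, ?_⟩, ⟨?_, ?_, ?_, ?_⟩, ⟨?_, ?_, ?_⟩,
    ⟨?_, ?_⟩, ?_⟩ <;> omega

theorem eight_u72 (hF : Fintype.card F = 2 ^ 2) : Eight (PSU 7 F 2) := by
  have hst : 2 ^ 21 ∈ charDegrees (PSU 7 F 2) :=
    st_psu hF (by norm_num) (card_u7 hF) (k := 21) (m := 108617355) (by norm_num) (by norm_num)
  norm_num at hst
  obtain ⟨h860, h1848⟩ := rank3_7 hF
  obtain ⟨d, hd, d', hd', h1, h2, h3, hd0, hd0'⟩ := lines7 hF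
  obtain ⟨a, ha, f, hf, a1, f1, a3, h4, h5⟩ := block7 hF h1848 hst
  refine eight_of_list [1, 860, 1848, 2097152, d, d', a, f] (distinct7 a1 f1 h1 h2 h3 hd0 hd0' a3 h4 h5) le_rfl ?_
  simp only [List.mem_cons, List.not_mem_nil, or_false]
  rintro c (rfl | rfl | rfl | rfl | rfl | rfl | rfl | rfl)
  · exact one_mem
  · exact h860
  · exact h1848
  · exact hst
  · exact hd
  · exact hd'
  · exact ha
  · exact hf

/-! ### `PSU_4(2) = PSp_4(3)` -/

theorem card_u4 (hF : Fintype.card F = 2 ^ 2) : Nat.card (PSU 4 F 2) = 25920 := by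
  have h := S0280.result hF 4 (by norm_num)
  rw [show Nat.gcd 4 (2 + 1) = 1 by decide] at h
  simp only [Finset.prod_range_succ, Finset.prod_range_zero] at h
  norm_num [Nat.even_iff] at h
  omega

/-- the principal `5`-block of `PSU_4(2)` -/
theorem block4 (hF : Fintype.card F = 2 ^ 2) (h24 : 24 ∈ charDegrees (PSU 4 F 2))
    (h64 : 64 ∈ charDegrees (PSU 4 F 2)) (h81 : 81 ∈ charDegrees (PSU 4 F 2)) : 6 ∈ charDegrees (PSU 4 F 2) := by
  have hS := psu_simple hF (n := 4) (by norm_num)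
  have hc := card_u4 hF
  have h5 : Fact (Nat.Prime 5) := ⟨by norm_num⟩
  obtain ⟨M, P, hM, hP, hC, ⟨D⟩⟩ := exists_blk (G := PSU 4 F 2) (p := 5) (by norm_num)
    (H809.SelfCent.psu_selfcent 4 2 5 (by decide) F hF)
    (by rw [hc]; norm_num) (e := 4) (t := 1) (by norm_num) (by rw [hc])
  have hlen := D.length_degs
  obtain ⟨x, y, z, hl⟩ := List.length_eq_three.1 (by omega : D.degs.length = 3)
  have f1 := D.dexc_modEq hP rfl
  have f3 := BlockTools.dexc_mem D rfl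
  rw [← D.dexc_eq rfl] at f1
  have c24 := BlockTools2.degree_cases hM D hP hC rfl h24 (by norm_num)
  have c64 := BlockTools2.degree_cases hM D hP hC rfl h64 (by norm_num)
  have c81 := BlockTools2.degree_cases hM D hP hC rfl h81 (by norm_num)
  have f5 : 1 + D.degs.sum = 1 + x + y + z := by
    rw [hl]
    simp only [List.sum_cons, List.sum_nil]
    ring
  rw [f5] at f1 f3 c24 c64 c81
  have hx : x ∈ D.degs := by rw [hl]; simp
  have hy : y ∈ D.degs := by rw [hl]; simp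
  have hz : z ∈ D.degs := by rw [hl]; simp
  have x1 := (D.degs_spec hP x hx).1
  have y1 := (D.degs_spec hP y hy).1
  have z1 := (D.degs_spec hP z hz).1
  have x2 := BlockTools.degs_mem D hx
  have y2 := BlockTools.degs_mem D hy
  have z2 := BlockTools.degs_mem D hz
  rw [hl] at c24 c64 c81
  simp only [List.mem_cons, List.not_mem_nil, or_false, exists_eq_or_imp, exists_eq_left] at c24 c64 c81
  unfold Int.ModEq at x1 y1 z1 f1
  obtain ⟨w, hw⟩ : ∃ w, w = 1 + x + y + z := ⟨_, rfl⟩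
  rw [← hw] at f1 f3 c24 c64 c81
  have key : x.natAbs = 6 ∨ y.natAbs = 6 ∨ z.natAbs = 6 ∨ w.natAbs = 6 := by
    rcases c24 with c24 | (c24 | c24 | c24) | c24
    · omega
    all_goals
      rcases c64 with c64 | (c64 | c64 | c64) | c64
      · omega
      all_goals
        rcases c81 with c81 | (c81 | c81 | c81) | c81 <;> omega
  rcases key with h | h | h | h
  · rwa [h] at x2
  · rwa [h] at y2
  · rwa [h] at z2
  · rwa [h] at f3

theorem two_ne_zero_three : (2 : ZMod 3) ≠ 0 := by decide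

theorem eight_u42 (hF : Fintype.card F = 2 ^ 2) : Eight (PSU 4 F 2) := by
  have hK : Fintype.card (ZMod 3) = 3 := ZMod.card 3
  have hK' : Nat.card (ZMod 3) = 3 := by rw [Nat.card_eq_fintype_card, hK]
  obtain ⟨e⟩ := Cfsg.Agent.S0822.result (F := F) (K := ZMod 3) (by rw [hF]; norm_num) hK
  have hS := psu_simple hF (n := 4) (by norm_num)
  have hcd := charDegrees_congr e
  have hS' : IsSimpleGroup (PSp 2 (ZMod 3)) := e.symm.isSimpleGroup
  have hc := card_u4 hF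
  have hc' : Nat.card (PSp 2 (ZMod 3)) = 25920 := by rw [← Nat.card_congr e.toEquiv, hc]
  have h3 : Fact (Nat.Prime 3) := ⟨Nat.prime_three⟩
  obtain ⟨χ₁, χ₂, h1, h2, hd1, hd2⟩ := H113.PSU.Left43.u42 hF
  have h20 : 20 ∈ charDegrees (PSU 4 F 2) := H677.Tri42.deg_of_one h1 (by rw [hd1]; norm_num)
  have h24 : 24 ∈ charDegrees (PSU 4 F 2) := H677.Tri42.deg_of_one h2 (by rw [hd2]; norm_num)
  have h15 : 15 ∈ charDegrees (PSU 4 F 2) := by
    rw [hcd]
    exact H677.Tri42.fifteen hK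
  have h64 : 2 ^ 6 ∈ charDegrees (PSU 4 F 2) :=
    st_psu hF (by norm_num) hc (k := 6) (m := 405) (by norm_num) (by norm_num)
  norm_num at h64
  have h81 : 81 ∈ charDegrees (PSU 4 F 2) := by
    rw [hcd]
    have h := st_mem (p := 3) (G := PSp 2 (ZMod 3)) (H167.StChar.hasSt_of_lie Nat.prime_three
      (Or.inr (Or.inl ⟨ZMod 3, inferInstance, inferInstance, inferInstance, 2, le_rfl, fun _ => hK.ge,
        ⟨MulEquiv.refl _⟩⟩)))
    rw [hc', show 25920 = 3 ^ 4 * 320 by norm_num, Nat.factorization_mul (by norm_num) (by norm_num),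
      Nat.Prime.factorization_pow Nat.prime_three, Finsupp.add_apply, Finsupp.single_eq_same,
      Nat.factorization_eq_zero_of_not_dvd (by norm_num), add_zero] at h
    norm_num at h
    exact h
  have h6 := block4 hF h24 h64 h81
  obtain ⟨w, hw, hw'⟩ : ∃ w ∈ charDegrees (PSU 4 F 2), w = 4 ∨ w = 5 := by
    obtain ⟨χ, hχ⟩ := H677.WeilIrr.exists_irr_psp (F := ZMod 3) (n := 2) (by norm_num) two_ne_zero_three
    rw [hK'] at hχ
    refine ⟨charDegree (χ : PSp 2 (ZMod 3) → ℂ), ?_, ?_⟩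
    · rw [hcd]
      exact ⟨χ, rfl⟩
    · omega
  refine eight_of_list [1, w, 6, 15, 20, 24, 64, 81] ?_ le_rfl ?_
  · rcases hw' with rfl | rfl <;> decide
  · simp only [List.mem_cons, List.not_mem_nil, or_false]
    rintro c (rfl | rfl | rfl | rfl | rfl | rfl | rfl | rfl)
    · exact one_mem
    · exact hw
    · exact h6
    · exact h15
    · exact h20
    · exact h24
    · exact h64
    · exact h81

theorem eight_sp43 (hF : Fintype.card F = 3) : Eight (PSp 2 F) := by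
  have : Fact (Nat.Prime 2) := ⟨Nat.prime_two⟩
  have hfin : Finite (GaloisField 2 2) := Finite.of_finite_univ (by
    have := GaloisField.card 2 2 (by norm_num)
    exact Set.finite_univ_iff.2 (Nat.finite_of_card_ne_zero (by rw [this]; norm_num)))
  let _ : Fintype (GaloisField 2 2) := Fintype.ofFinite _
  have h4 : Fintype.card (GaloisField 2 2) = 2 ^ 2 := by
    rw [← Nat.card_eq_fintype_card, GaloisField.card 2 2 (by norm_num)]
  obtain ⟨e⟩ := Cfsg.Agent.S0822.result (F := GaloisField 2 2) (K := F) (by rw [h4]; norm_num) hF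
  exact (eight_u42 h4).of_equiv e.symm

end Rows

end Cfsg.Agent.H561.Eight
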